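import Mathlib

/-!
# Eigenspaces modulo `s` of integral matrices of finite order (helper38, S4324 INT2)

If `w` is an integral `l × l` matrix with `w ^ N = 1` and `j` is an eigenvalue of `w` modulo the prime `s` with an
eigenspace of dimension at least `k`, then `k φ(n) ≤ l`, `n` the order of `j`.
-/

set_option autoImplicit false

namespace Cfsg.Agent.H38.IntTwo

open Polynomial Module

theorem rootMultiplicity_pow' {F : Type*} [Field F] {f : F[X]} (hf : f ≠ 0) (x : F) (n : ℕ) :
    (f ^ n).rootMultiplicity x = n * f.rootMultiplicity x := by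
  induction n with
  | zero => simp
  | succ n ih => rw [pow_succ, rootMultiplicity_mul (mul_ne_zero (pow_ne_zero n hf) hf), ih]; ring

theorem cyc {s : ℕ} [hs : Fact s.Prime] (j : ZMod s) {d : ℕ} (hd : 0 < d) :
    (cyclotomic d (ZMod s)).rootMultiplicity j * Nat.totient (orderOf j) ≤ Nat.totient d := by
  obtain ⟨a, m, hm, rfl⟩ := Nat.exists_eq_pow_mul_and_not_dvd hd.ne' s hs.out.ne_one
  have hm0 : (m : ZMod s) ≠ 0 := fun h => hm ((CharP.cast_eq_zero_iff (ZMod s) s m).1 h)
  have : NeZero (m : ZMod s) := ⟨hm0⟩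
  by_cases hr : (cyclotomic (s ^ a * m) (ZMod s)).IsRoot j
  swap
  · rw [rootMultiplicity_eq_zero hr, zero_mul]
    exact Nat.zero_le _
  have hprim := isRoot_cyclotomic_prime_pow_mul_iff_of_charP.1 hr
  have hord : orderOf j = m := hprim.eq_orderOf.symm
  rw [hord]
  have hsep : (cyclotomic m (ZMod s)).Separable := by
    refine Separable.of_dvd (separable_X_pow_sub_C (1 : ZMod s) hm0 one_ne_zero) ?_
    rw [map_one]
    exact cyclotomic.dvd_X_pow_sub_one m (ZMod s)
  have h1 : (cyclotomic m (ZMod s)).rootMultiplicity j ≤ 1 := rootMultiplicity_le_one_of_separable hsep j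
  rcases Nat.eq_zero_or_pos a with rfl | ha
  · rw [pow_zero, one_mul]
    calc _ ≤ 1 * Nat.totient m := Nat.mul_le_mul_right _ h1
      _ = _ := one_mul _
  · rw [cyclotomic_mul_prime_pow_eq (ZMod s) hm ha, rootMultiplicity_pow' (cyclotomic_ne_zero m (ZMod s)),
      Nat.totient_mul ((Nat.Coprime.pow_left a ((Nat.Prime.coprime_iff_not_dvd hs.out).2 hm))),
      Nat.totient_prime_pow hs.out ha]
    refine Nat.mul_le_mul_right _ ?_
    calc (s ^ a - s ^ (a - 1)) * (cyclotomic m (ZMod s)).rootMultiplicity j ≤ (s ^ a - s ^ (a - 1)) * 1 :=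
          Nat.mul_le_mul_left _ h1
      _ = s ^ (a - 1) * (s - 1) := by
        obtain ⟨b, rfl⟩ : ∃ b, a = b + 1 := ⟨a - 1, by omega⟩
        rw [Nat.add_sub_cancel, mul_one, Nat.mul_sub_one, pow_succ]

theorem key {s : ℕ} [hs : Fact s.Prime] (j : ZMod s) {N : ℕ} (hN : 0 < N) (D : ℕ) :
    ∀ f : ℤ[X], f.Monic → f.natDegree = D → (∀ μ : ℂ, aeval μ f = 0 → μ ^ N = 1) →
      (f.map (Int.castRingHom (ZMod s))).rootMultiplicity j * Nat.totient (orderOf j) ≤ D := by
  induction D using Nat.strong_induction_on with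
  | _ D ih =>
    intro f hf hD hroot
    rcases Nat.eq_zero_or_pos D with h0 | h0
    · have h1 : f = 1 := eq_one_of_monic_natDegree_zero hf (hD.trans h0)
      rw [h1, Polynomial.map_one, rootMultiplicity_eq_zero (by simp [IsRoot]), zero_mul]
      exact Nat.zero_le _
    · have hdeg : (f.map (Int.castRingHom ℂ)).degree ≠ 0 := by
        rw [hf.degree_map, degree_eq_natDegree hf.ne_zero, hD]
        exact_mod_cast h0.ne'
      obtain ⟨μ, hμ⟩ := IsAlgClosed.exists_root _ hdeg
      have hμ' : aeval μ f = 0 := by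
        rw [aeval_def, eval₂_eq_eval_map]
        exact hμ
      have hμN := hroot μ hμ'
      have hfin : IsOfFinOrder μ := isOfFinOrder_iff_pow_eq_one.2 ⟨N, hN, hμN⟩
      have hd0 : 0 < orderOf μ := hfin.orderOf_pos
      have hprim := IsPrimitiveRoot.orderOf μ
      have hdvd : cyclotomic (orderOf μ) ℤ ∣ f := by
        rw [cyclotomic_eq_minpoly hprim hd0]
        exact minpoly.isIntegrallyClosed_dvd (hprim.isIntegral hd0) hμ'
      obtain ⟨g, rfl⟩ := hdvd
      have hc := cyclotomic.monic (orderOf μ) ℤ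
      have hg : g.Monic := hc.of_mul_monic_left hf
      have hdg : (cyclotomic (orderOf μ) ℤ * g).natDegree = Nat.totient (orderOf μ) + g.natDegree := by
        rw [hc.natDegree_mul hg, natDegree_cyclotomic]
      have hpos : 0 < Nat.totient (orderOf μ) := Nat.totient_pos.2 hd0
      have h1 := ih g.natDegree (by omega) g hg rfl fun ν hν => hroot ν (by rw [map_mul, hν, mul_zero])
      have h2 := cyc j hd0
      have hne : (cyclotomic (orderOf μ) ℤ * g).map (Int.castRingHom (ZMod s)) ≠ 0 := (hf.map _).ne_zero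
      rw [Polynomial.map_mul, map_cyclotomic] at hne ⊢
      rw [rootMultiplicity_mul hne, add_mul]
      omega

theorem root_pow {l : ℕ} {w : Matrix (Fin l) (Fin l) ℤ} {N : ℕ} (hw : w ^ N = 1) {μ : ℂ}
    (hμ : aeval μ w.charpoly = 0) : μ ^ N = 1 := by
  set W : Matrix (Fin l) (Fin l) ℂ := w.map (Int.castRingHom ℂ) with hW
  have h1 : W.charpoly.IsRoot μ := by
    rw [hW, Matrix.charpoly_map, IsRoot.def, ← eval₂_eq_eval_map]
    rw [aeval_def] at hμ
    exact hμ
  rw [IsRoot.def, Matrix.eval_charpoly] at h1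
  obtain ⟨v, hv0, hv⟩ := Matrix.exists_mulVec_eq_zero_iff.2 h1
  have h2 : W.mulVec v = μ • v := by
    rw [Matrix.sub_mulVec, sub_eq_zero] at hv
    rw [← hv]
    ext i
    simp [Matrix.scalar_apply, Matrix.mulVec_diagonal]
  have h3 : ∀ n : ℕ, (W ^ n).mulVec v = μ ^ n • v := by
    intro n
    induction n with
    | zero => simp
    | succ n ih => rw [pow_succ, ← Matrix.mulVec_mulVec, h2, Matrix.mulVec_smul, ih, smul_smul, pow_succ, mul_comm]
  have h4 : W ^ N = 1 := by
    rw [hW, ← Matrix.map_pow, hw]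
    exact Matrix.map_one _ (map_zero _) (map_one _)
  have h5 := h3 N
  rw [h4, Matrix.one_mulVec] at h5
  obtain ⟨i, hi⟩ := Function.ne_iff.1 hv0
  have h6 := congrFun h5 i
  rw [Pi.smul_apply, smul_eq_mul] at h6
  have h7 : (μ ^ N - 1) * v i = 0 := by linear_combination -h6
  exact sub_eq_zero.1 ((mul_eq_zero.1 h7).resolve_right hi)

/-- **INT2** -/
theorem int_two {l : ℕ} {w : Matrix (Fin l) (Fin l) ℤ} {N : ℕ} (hN : 0 < N) (hw : w ^ N = 1) {s : ℕ}
    [Fact s.Prime] {j : ZMod s} (_hj : j ≠ 0) {k : ℕ}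
    (hk : k ≤ Module.finrank (ZMod s)
      (LinearMap.ker (Matrix.toLin' (w.map (Int.castRingHom (ZMod s))) - j • LinearMap.id))) :
    k * Nat.totient (orderOf j) ≤ l := by
  set φ : End (ZMod s) (Fin l → ZMod s) := Matrix.toLin' (w.map (Int.castRingHom (ZMod s))) with hφ
  have h1 : Module.finrank (ZMod s) (LinearMap.ker (φ - j • LinearMap.id)) ≤ φ.charpoly.rootMultiplicity j := by
    have h2 := LinearMap.finrank_eigenspace_le φ j
    rw [Module.End.eigenspace_def] at h2
    exact h2
  have h3 : φ.charpoly = w.charpoly.map (Int.castRingHom (ZMod s)) := by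
    rw [hφ, Matrix.charpoly_toLin', Matrix.charpoly_map]
  have h4 := key j hN w.charpoly.natDegree w.charpoly w.charpoly_monic rfl fun μ hμ => root_pow hw hμ
  rw [Matrix.charpoly_natDegree_eq_dim, Fintype.card_fin, ← h3] at h4
  exact (Nat.mul_le_mul_right _ (hk.trans h1)).trans h4

end Cfsg.Agent.H38.IntTwo
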